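import Groth.Agent.H22Alg.MumfordBdd
import Groth.Agent.H22Alg.MumfordStep
import Groth.Agent.H10Coh.Stab.TwistInt
import Groth.Agent.H10Coh.StabBC.Alg
import Groth.Agent.H28Int.Vanishing
import Groth.Agent.H25Euler.ParPoly

/-! # The slope of a quotient of a regular sheaf is bounded below -/

set_option autoImplicit false
set_option backward.isDefEq.respectTransparency.types false
set_option linter.style.haveILetI false
set_option linter.unusedSectionVars false

universe u

open CategoryTheory CategoryTheory.Limits AlgebraicGeometry Opposite TopologicalSpace Polynomial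
attribute [local instance 10000] Groth.Agent.H10Coh.hasSheafifyAb Groth.Agent.H10Coh.hasWeakSheafifyAb Groth.Agent.H10Coh.hasExtAb Groth.Agent.H10Coh.enoughInjAb

namespace Groth.Agent.H10Coh.SlopeReg

open H22Alg H22Alg.CMField

variable {k : Type u} [Field k] {N : ℕ}

local notation "P" => CohB1.ProjSpace N k
local notation "O" => fun d : ℤ => Twist.twistProjSpace N k d

theorem van_right {X : Scheme.{u}} {S : ShortComplex X.Modules} (hS : S.ShortExact) {q : ℕ}
    (h₂ : Van q S.X₂) (h₁ : Van (q + 1) S.X₁) : Van q S.X₃ :=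
  ⟨fun a b => by
    have key : ∀ x : H10Coh.Hn (H10Coh.sh S.X₃) q ⊤, x = 0 := fun x => by
      obtain ⟨y, hy⟩ := Abelian.Ext.covariant_sequence_exact₃ _ (H10Coh.shortExact_sh hS) x
        (rfl : q + 1 = q + 1) (@Subsingleton.elim _ h₁ _ _)
      rw [← hy, @Subsingleton.elim _ h₂ y 0]
      exact Abelian.Ext.zero_comp ..
    rw [key a, key b]⟩

/-- A section of `O(1)` generating at finitely many given points. -/
theorem exists_section_avoiding [Infinite k] : ∀ {N : ℕ} {S : Set (CohB1.ProjSpace N k)}, S.Finite →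
    ∃ s : Coh.structureModule (CohB1.ProjSpace N k) ⟶ Twist.twistProjSpace N k 1,
      S ⊆ (CohB1.genLocus (Twist.twistProjSpace N k 1) s : Set (CohB1.ProjSpace N k))
  | 0, S, _ => ⟨H11Tilde.homOfGlobal _ (coords k 0 0), fun z _ => by
      obtain ⟨j, hj, hz⟩ := (setup k 0).cover z
      obtain rfl : j = 0 := by omega
      show z ∈ CohB1.genLocus _ _
      rw [H11Ample.genLocus_eq_gen, H11Ample.val_homOfGlobal]
      exact hz⟩
  | N + 1, S, hS => by
    obtain ⟨a, p, -, hav⟩ := MumfordStep.exists_form (n := N) (k := k) hS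
    have hm : HyperplaneAlg.form a ∈ CohB1.polyGrading (N + 1) k 1 :=
      (MvPolynomial.mem_homogeneousSubmodule 1 _).2
        (MvPolynomial.IsHomogeneous.sum _ _ _ fun t _ => MvPolynomial.isHomogeneous_C_mul_X _ _)
    obtain ⟨s, -, hgen⟩ := MumfordStep.exists_section (CohB1.polyGrading (N + 1) k) hm
    exact ⟨s, fun x hx => hgen (hav x hx)⟩

theorem proper : IsProper (P ↘ Spec (CommRingCat.of k)) := MumfordBound.proper_toSpec

/-- The Hilbert polynomial in the sense of the twists by the natural numbers. -/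
theorem isHilb {E : (P).Modules} {Q : ℚ[X]}
    (hQ : ∀ m : ℤ, (Curv2.euler k P (CohB1.tensorMod E (Twist.twistProjSpace N k m)) : ℚ) = Q.eval (m : ℚ)) :
    ShStab.IsHilbPoly k P (Twist.twistProjSpace N k 1) E Q :=
  haveI := proper (k := k) (N := N)
  Stab.isHilbPoly_of_int (Stab.isTwistFamily_projSpace N k) hQ

theorem coeff_top {E : (P).Modules} (hE : Coh.IsCoh E) {Q : ℚ[X]}
    (hQ : ∀ m : ℤ, (Curv2.euler k P (CohB1.tensorMod E (Twist.twistProjSpace N k m)) : ℚ) = Q.eval (m : ℚ))
    {d : ℕ} (hd : topologicalKrullDim (CohB1.support E) = (d : WithBot ℕ∞)) :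
    Q.natDegree = d ∧ 0 < Q.coeff d :=
  haveI := proper (k := k) (N := N)
  have h := Stab.degree_hilbPoly (H11Ample.isAmple_twistProjSpace N k) hE hd (isHilb hQ)
  ⟨h.1, h.2.2⟩

theorem coeff_above {E : (P).Modules} (hE : Coh.IsCoh E) {Q : ℚ[X]}
    (hQ : ∀ m : ℤ, (Curv2.euler k P (CohB1.tensorMod E (Twist.twistProjSpace N k m)) : ℚ) = Q.eval (m : ℚ))
    {d : ℕ} (hd : topologicalKrullDim (CohB1.support E) ≤ (d : WithBot ℕ∞)) {n : ℕ} (hn : d < n) :
    Q.coeff n = 0 :=
  haveI := proper (k := k) (N := N)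
  H25Euler.coeff_hilbPoly_eq_zero (H11Ample.isAmple_twistProjSpace N k) hE (isHilb hQ)
    (lt_of_le_of_lt hd (by exact_mod_cast Nat.lt_succ_self d)) hn

theorem dim_le_of_coeff {E : (P).Modules} (hE : Coh.IsCoh E) {Q : ℚ[X]}
    (hQ : ∀ m : ℤ, (Curv2.euler k P (CohB1.tensorMod E (Twist.twistProjSpace N k m)) : ℚ) = Q.eval (m : ℚ))
    {d : ℕ} (h : ∀ n, d < n → Q.coeff n = 0) :
    topologicalKrullDim (CohB1.support E) ≤ (d : WithBot ℕ∞) := by
  haveI := proper (k := k) (N := N)
  haveI := CMHyper.noetherian k N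
  by_cases h0 : IsZero E
  · exact (H25Euler.dim_support_of_isZero h0 d).le
  · obtain ⟨M, hM⟩ := StabBC.exists_dim_lt k P
    obtain ⟨e, he⟩ := StabBC.exists_dim_eq h0
      ((topologicalKrullDim_subspace_le P (CohB1.support E)).trans_lt hM)
    have hc := (coeff_top hE hQ he).2
    rw [he]
    exact_mod_cast not_lt.1 fun hlt => hc.ne' (h e hlt)

theorem coeff_shift_eq (Q : ℚ[X]) (d : ℕ) (hQ : ∀ n, d + 2 < n → Q.coeff n = 0) :
    (Q.comp (X + C 1)).coeff (d + 2) = Q.coeff (d + 2) ∧
      (Q.comp (X + C 1)).coeff (d + 1) = Q.coeff (d + 1) + (d + 2 : ℚ) * Q.coeff (d + 2) ∧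
      (Q.comp (X + C 1)).coeff d = Q.coeff d + (d + 1 : ℚ) * Q.coeff (d + 1) +
        ((d + 2).choose d : ℚ) * Q.coeff (d + 2) := by
  have hsum : ∀ n, (Q.comp (X + C 1)).coeff n = ∑ i ∈ Finset.range (d + 3), Q.coeff i * (i.choose n : ℚ) := by
    intro n
    have hdeg : Q.natDegree < d + 3 := Nat.lt_succ_of_le (natDegree_le_iff_coeff_eq_zero.2 hQ)
    conv_lhs => rw [Q.as_sum_range' (d + 3) hdeg]
    simp [Polynomial.sum_comp, Polynomial.finsetSum_coeff, Polynomial.coeff_X_add_one_pow, monomial_comp,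
      Polynomial.coeff_C_mul]
  have hz : ∀ n, d ≤ n → ∑ i ∈ Finset.range d, Q.coeff i * (i.choose n : ℚ) = 0 := fun n hn =>
    Finset.sum_eq_zero fun i hi => by
      rw [Nat.choose_eq_zero_of_lt (lt_of_lt_of_le (Finset.mem_range.1 hi) hn)]
      simp
  refine ⟨?_, ?_, ?_⟩ <;> rw [hsum, Finset.sum_range_succ, Finset.sum_range_succ, Finset.sum_range_succ]
  · rw [hz _ (by omega)]
    simp [Nat.choose_eq_zero_of_lt (show d < d + 2 by omega), Nat.choose_eq_zero_of_lt (show d + 1 < d + 2 by omega)]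
  · rw [hz _ (by omega)]
    simp [Nat.choose_succ_self_right, Nat.choose_eq_zero_of_lt (show d < d + 1 by omega)]
    ring
  · rw [hz _ le_rfl]
    simp [Nat.choose_succ_self_right]
    ring

/-- The bound, by induction on the dimension. -/
theorem hatSlope_bound [Infinite k] : ∀ (e : ℕ) (ρ : ℤ) (E F : (P).Modules) (PE Q : ℚ[X]),
    Coh.IsCoh E → Reg O E ρ → Coh.IsCoh F → ∀ (q : E ⟶ F), Epi q →
    (∀ m : ℤ, (Curv2.euler k P (CohB1.tensorMod E (Twist.twistProjSpace N k m)) : ℚ) = PE.eval (m : ℚ)) →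
    (∀ m : ℤ, (Curv2.euler k P (CohB1.tensorMod F (Twist.twistProjSpace N k m)) : ℚ) = Q.eval (m : ℚ)) →
    topologicalKrullDim (CohB1.support E) ≤ ((e + 1 : ℕ) : WithBot ℕ∞) → 0 < Q.coeff (e + 1) →
    (1 - (ρ : ℚ) + (e : ℚ) / 2) * (((e + 1).factorial : ℚ) * Q.coeff (e + 1)) ≤ (e.factorial : ℚ) * Q.coeff e := by
  haveI := proper (k := k) (N := N)
  haveI := CMHyper.noetherian k N
  have hs := setup k N
  intro e
  induction e with
  | zero =>
    intro ρ E F PE Q hE hreg hF q hq hPE hQ hd hpos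
    haveI := hq
    haveI : (P).IsSeparated := Stab.isSeparated_of_proper (Z := P) k
    have hK : Coh.IsCoh (kernel q) := H10Coh.isCoh_kernel q hE hF.1
    have hS : (ShortComplex.mk (kernel.ι q) q (kernel.condition q)).ShortExact :=
      { exact := ShortComplex.exact_kernel _ }
    have hsub := H25Euler.support_X₁_X₃ hS
    have hvan : ∀ (M : (P).Modules), Coh.IsCoh M → CohB1.support M ⊆ CohB1.support E → ∀ i, 2 ≤ i →
        Van i (CohB1.tensorMod M (Twist.twistProjSpace N k (ρ - 1))) := fun M hM hMs i hi =>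
      H28Int.subsingleton_HnM_of_support ⟨CohB1.support E, H10Coh.isClosed_support E hE.2⟩ 1
        (by simpa using hd) _ (H11Ample.isCoh_tensor hM (hs.fam.inv _)).1
        ((H25Euler.support_tensor_subset M _).trans hMs) i (by omega)
    have hF1 : ∀ i, 1 ≤ i → Van i (CohB1.tensorMod F (Twist.twistProjSpace N k (ρ - 1))) := fun i hi => by
      rcases (show 2 ≤ i ∨ i = 1 by omega) with h2 | rfl
      · exact hvan F hF hsub.2 i h2
      · exact van_right (H10Coh.Tw.shortExact_seq hS (hs.fam.inv (ρ - 1))) (hreg 1 le_rfl)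
          (hvan (kernel q) hK hsub.1 2 le_rfl)
    have h0 := MumfordBdd.finrank_h0_eq_euler hF1
    have h1 : (0 : ℚ) ≤ Q.eval ((ρ - 1 : ℤ) : ℚ) := by
      rw [← hQ, ← h0]
      exact_mod_cast Nat.zero_le _
    have hdeg : Q = C (Q.coeff 1) * Polynomial.X + C (Q.coeff 0) :=
      eq_X_add_C_of_natDegree_le_one (natDegree_le_iff_coeff_eq_zero.2 fun n hn => by
        refine coeff_above hF hQ (d := 1) ?_ hn
        exact (Topology.IsEmbedding.inclusion hsub.2).isInducing.topologicalKrullDim_le.trans hd)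
    rw [hdeg] at h1
    simp only [Polynomial.eval_add, Polynomial.eval_mul, Polynomial.eval_C, Polynomial.eval_X, Int.cast_sub,
      Int.cast_one] at h1
    simp only [Nat.factorial_zero, zero_add, Nat.factorial_one, Nat.cast_one, one_mul, Nat.cast_zero, zero_div,
      add_zero]
    linarith
  | succ e ih =>
    intro ρ E F PE Q hE hreg hF q hq hPE hQ hd hpos
    haveI := hq
    let L := Twist.twistProjSpace N k 1
    obtain ⟨s, hgen⟩ := exists_section_avoiding (k := k) (N := N)
      ((H17.PrimaryDecomp.finite_ass hE).union (H17.PrimaryDecomp.finite_ass hF))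
    haveI hμE : Mono (SectionCut.mul s E) := SectionCut.mono_mulHom s hE.1 fun x hx => hgen (Or.inl hx)
    haveI hμF : Mono (SectionCut.mul s F) := SectionCut.mono_mulHom s hF.1 fun x hx => hgen (Or.inr hx)
    let E' := cokernel (SectionCut.mul s E)
    let F' := cokernel (SectionCut.mul s F)
    have hE1 := H11Ample.isCoh_tensor hE (hs.fam.inv 1)
    have hF1 := H11Ample.isCoh_tensor hF (hs.fam.inv 1)
    have hE' : Coh.IsCoh E' := H10Coh.isCoh_cokernel _ hE.1 hE1
    have hF' : Coh.IsCoh F' := H10Coh.isCoh_cokernel _ hF.1 hF1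
    let q' : E' ⟶ F' := cokernel.map _ _ q (LimSh.tensorModMap q L) (SectionCut.mul_natural s q)
    haveI : Epi (LimSh.tensorModMap q L) := H10Coh.Tw.epi_map q (hs.fam.inv 1)
    haveI : Epi q' := by
      refine @epi_of_epi_fac _ _ _ _ _ (cokernel.π (SectionCut.mul s E)) _
        (LimSh.tensorModMap q L ≫ cokernel.π (SectionCut.mul s F)) (epi_comp _ _) ?_
      exact cokernel.π_desc _ _ _
    have hseq : ∀ (M : (P).Modules) [Mono (SectionCut.mul s M)] (j : ℤ),
        ∃ (g : CohB1.tensorMod M (Twist.twistProjSpace N k j) ⟶ CohB1.tensorMod M (Twist.twistProjSpace N k (j + 1)))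
          (p : CohB1.tensorMod M (Twist.twistProjSpace N k (j + 1)) ⟶
            CohB1.tensorMod (cokernel (SectionCut.mul s M)) (Twist.twistProjSpace N k j))
          (w : g ≫ p = 0), (ShortComplex.mk g p w).ShortExact := by
      intro M _ j
      have hS : (ShortComplex.mk (SectionCut.mul s M) (cokernel.π _) (cokernel.condition _)).ShortExact :=
        { exact := ShortComplex.exact_cokernel _ }
      have hT := H10Coh.Tw.shortExact_seq hS (hs.fam.inv j)
      obtain ⟨t⟩ := MumfordBound.nonempty_twist_twist M j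
      let z := LimSh.tensorModMap (SectionCut.mul s M) (Twist.twistProjSpace N k j)
      let z' := LimSh.tensorModMap (cokernel.π (SectionCut.mul s M)) (Twist.twistProjSpace N k j)
      have hz : z ≫ z' = 0 :=
        (H10Coh.Tw.seq (ShortComplex.mk (SectionCut.mul s M) (cokernel.π _) (cokernel.condition _)) (hs.fam.inv j)).zero
      refine ⟨z ≫ t.hom, t.inv ≫ z', by rw [Category.assoc, t.hom_inv_id_assoc, hz], ?_⟩
      refine ShortComplex.shortExact_of_iso (ShortComplex.isoMk
        (S₁ := H10Coh.Tw.seq (ShortComplex.mk (SectionCut.mul s M) (cokernel.π _) (cokernel.condition _)) (hs.fam.inv j))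
        (Iso.refl _) t (Iso.refl _) ?_ ?_) hT
      · show 𝟙 _ ≫ z ≫ t.hom = _ ≫ t.hom
        rw [Category.id_comp]
        rfl
      · show t.hom ≫ t.inv ≫ z' = _ ≫ 𝟙 _
        rw [t.hom_inv_id_assoc, Category.comp_id]
        rfl
    have hchi : ∀ (M : (P).Modules), Coh.IsCoh M → ∀ [Mono (SectionCut.mul s M)] (R : ℚ[X]),
        (∀ m : ℤ, (Curv2.euler k P (CohB1.tensorMod M (Twist.twistProjSpace N k m)) : ℚ) = R.eval (m : ℚ)) →
        ∀ m : ℤ, (Curv2.euler k P (CohB1.tensorMod (cokernel (SectionCut.mul s M))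
          (Twist.twistProjSpace N k m)) : ℚ) = (R.comp (Polynomial.X + C 1) - R).eval (m : ℚ) := by
      intro M hM _ R hR m
      obtain ⟨g, p, w, hS⟩ := hseq M m
      have h := H25Euler.euler_add (k := k) hS (H11Ample.isCoh_tensor hM (hs.fam.inv m))
        (H11Ample.isCoh_tensor hM (hs.fam.inv (m + 1)))
        (H11Ample.isCoh_tensor (H10Coh.isCoh_cokernel _ hM.1 (H11Ample.isCoh_tensor hM (hs.fam.inv 1))) (hs.fam.inv m))
      have h' := congrArg (fun z : ℤ => (z : ℚ)) h
      simp only [Int.cast_add, hR] at h'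
      rw [eval_sub, eval_comp, eval_add, eval_X, eval_C]
      push_cast at h'
      linarith
    have hreg' : Reg O E' (ρ - 1) := fun i hi => by
      obtain ⟨g, p, w, hS⟩ := hseq E (ρ - 1 - i)
      refine van_right hS ?_ ?_
      · show Van i (CohB1.tensorMod E (Twist.twistProjSpace N k (ρ - 1 - i + 1)))
        rw [show ρ - 1 - (i : ℤ) + 1 = ρ - i by ring]
        exact hreg i hi
      · show Van (i + 1) (CohB1.tensorMod E (Twist.twistProjSpace N k (ρ - 1 - i)))
        rw [show ρ - 1 - (i : ℤ) = ρ - ((i + 1 : ℕ) : ℤ) by push_cast; ring]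
        exact hreg (i + 1) (by omega)
    have hsubF : CohB1.support F ⊆ CohB1.support E :=
      (H25Euler.support_X₁_X₃ (S := ShortComplex.mk (kernel.ι q) q (kernel.condition q))
        { exact := ShortComplex.exact_kernel _ }).2
    have hdF : topologicalKrullDim (CohB1.support F) ≤ ((e + 2 : ℕ) : WithBot ℕ∞) :=
      (Topology.IsEmbedding.inclusion hsubF).isInducing.topologicalKrullDim_le.trans hd
    obtain ⟨a2, a1, a0⟩ := coeff_shift_eq Q e fun n hn => coeff_above hF hQ hdF hn
    obtain ⟨b2, -, -⟩ := coeff_shift_eq PE e fun n hn => coeff_above hE hPE hd hn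
    have hdE' : topologicalKrullDim (CohB1.support E') ≤ ((e + 1 : ℕ) : WithBot ℕ∞) := by
      refine dim_le_of_coeff hE' (hchi E hE PE hPE) fun n hn => ?_
      rcases (show n = e + 2 ∨ e + 2 < n by omega) with rfl | hn'
      · rw [coeff_sub, b2, sub_self]
      · refine coeff_eq_zero_of_natDegree_lt (lt_of_le_of_lt ?_ hn')
        have hP2 : PE.natDegree ≤ e + 2 := natDegree_le_iff_coeff_eq_zero.2 fun j hj => coeff_above hE hPE hd hj
        refine (natDegree_sub_le _ _).trans (max_le ?_ hP2)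
        rw [natDegree_comp, natDegree_X_add_C, mul_one]
        exact hP2
    have hpos' : 0 < (Q.comp (Polynomial.X + C 1) - Q).coeff (e + 1) := by
      rw [coeff_sub, a1, add_sub_cancel_left]
      exact mul_pos (by positivity) hpos
    have h := ih (ρ - 1) E' F' _ _ hE' hreg' hF' q' inferInstance (hchi E hE PE hPE) (hchi F hF Q hQ) hdE' hpos'
    rw [coeff_sub, coeff_sub, a1, a0, add_sub_cancel_left, Nat.choose_symm_add] at h
    have hch : ((e + 2).choose 2 : ℚ) = (e + 2 : ℚ) * (e + 1) / 2 := by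
      rw [Nat.cast_choose_two]; push_cast; ring
    rw [hch, Nat.factorial_succ e] at h
    rw [show e + 1 + 1 = e + 2 from rfl, show (e + 2).factorial = (e + 2) * (e + 1).factorial from Nat.factorial_succ _,
      Nat.factorial_succ e]
    push_cast at h ⊢
    linarith

end Groth.Agent.H10Coh.SlopeReg
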